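import Groth.Agent.LocalCrit.Basic
import Groth.Agent.SerreReg.CM
import Groth.Prelude.Def_CAlg
import Mathlib.RingTheory.Noetherian.OfPrime
import Mathlib.RingTheory.KrullDimension.Regular
import Mathlib.RingTheory.Artinian.Ring

/-! Lifting regular sequences along flat deformations over an Artinian local ring. -/

universe u

set_option maxHeartbeats 1600000

open IsLocalRing RingTheory.Sequence
open scoped Pointwise TensorProduct

noncomputable section

namespace Groth.Agent.FlatLift

section Flat

variable {C : Type u} [CommRing C] [IsLocalRing C] {A : Type u} [CommRing A] [Algebra C A]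

theorem regular_flat_of_residue {n : ℕ} (hn : maximalIdeal C ^ n = ⊥) {M : Type u} [AddCommGroup M] [Module A M]
    [Module C M] [IsScalarTower C A M] [Module.Flat C M] (a : A)
    (h : IsSMulRegular (M ⧸ ((maximalIdeal C).map (algebraMap C A) • ⊤ : Submodule A M)) a) :
    IsSMulRegular M a ∧ Module.Flat C (QuotSMulTop a M) := by
  let u : M →ₗ[C] M :=
    { toFun := fun x => a • x
      map_add' := fun x y => smul_add a x y
      map_smul' := fun c x => smul_comm a c x }
  have hm : ∀ x : M, x ∈ maximalIdeal C • (⊤ : Submodule C M) ↔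
      x ∈ ((maximalIdeal C).map (algebraMap C A) • ⊤ : Submodule A M) := fun x => by
    rw [← Submodule.restrictScalars_top C A M, ← Ideal.smul_restrictScalars, Submodule.restrictScalars_mem]
  have hres : Function.Injective (u.lTensor (ResidueField C)) := by
    refine (LocalCrit.quot_lTensor_injective_iff (maximalIdeal C) u).2 fun x hx => ?_
    rw [hm] at hx ⊢
    rw [← Submodule.Quotient.mk_eq_zero]
    refine h ?_
    show a • Submodule.Quotient.mk x = a • 0
    rw [smul_zero, ← Submodule.Quotient.mk_smul, Submodule.Quotient.mk_eq_zero]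
    exact hx
  have hmem : ∀ (J : Ideal C) (x : M), u x ∈ J • (⊤ : Submodule C M) → x ∈ J • (⊤ : Submodule C M) :=
    fun J x hx => by
      have h1 := LocalCrit.mem_pow_sup_smul_of_map_mem u hres hx n
      rwa [hn, bot_sup_eq] at h1
  have hinj : Function.Injective u := (injective_iff_map_eq_zero u).2 fun x hx => by
    simpa using hmem ⊥ x (by simp [hx])
  refine ⟨hinj, LocalCrit.flat_of_exact u hinj
    ((a • (⊤ : Submodule A M)).mkQ.restrictScalars C) (Submodule.mkQ_surjective _) (fun y => ?_) fun J _ => hmem J⟩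
  constructor
  · intro hy
    obtain ⟨x, -, rfl⟩ := (Submodule.mem_smul_pointwise_iff_exists _ _ _).1 ((Submodule.Quotient.mk_eq_zero _).1 hy)
    exact ⟨x, rfl⟩
  · rintro ⟨x, rfl⟩
    exact (Submodule.Quotient.mk_eq_zero _).2 (Submodule.smul_mem_pointwise_smul x a ⊤ Submodule.mem_top)

/-- Swapping the two quotients. -/
def quotSwap (M : Type u) [AddCommGroup M] [Module A M] (P : Ideal A) (a : A) :
    ((QuotSMulTop a M) ⧸ (P • ⊤ : Submodule A (QuotSMulTop a M))) ≃ₗ[A] QuotSMulTop a (M ⧸ (P • ⊤ : Submodule A M)) :=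
  have h1 : (P • ⊤ : Submodule A (M ⧸ a • (⊤ : Submodule A M))) = (P • ⊤ : Submodule A M).map (a • ⊤ : Submodule A M).mkQ := by
    rw [Submodule.map_smul'', Submodule.map_top, Submodule.range_mkQ]
  have h2 : (a • ⊤ : Submodule A (M ⧸ (P • ⊤ : Submodule A M))) = (a • ⊤ : Submodule A M).map (P • ⊤ : Submodule A M).mkQ := by
    rw [Submodule.map_pointwise_smul, Submodule.map_top, Submodule.range_mkQ]
  (Submodule.quotEquivOfEq _ _ h1).trans <|
    (Submodule.quotientQuotientEquivQuotientSup _ _).trans <|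
      (Submodule.quotEquivOfEq _ _ (sup_comm _ _)).trans <|
        (Submodule.quotientQuotientEquivQuotientSup _ _).symm.trans (Submodule.quotEquivOfEq _ _ h2.symm)

theorem weaklyRegular_flat_of_residue {n : ℕ} (hn : maximalIdeal C ^ n = ⊥) : ∀ (rs : List A) (M : Type u)
    [AddCommGroup M] [Module A M] [Module C M] [IsScalarTower C A M] [Module.Flat C M],
    IsWeaklyRegular (M ⧸ ((maximalIdeal C).map (algebraMap C A) • ⊤ : Submodule A M)) rs →
      IsWeaklyRegular M rs ∧ Module.Flat C (M ⧸ (Ideal.ofList rs • ⊤ : Submodule A M))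
  | [], M, _, _, _, _, _, _ => by
    refine ⟨IsWeaklyRegular.nil A M, ?_⟩
    have e := Submodule.quotEquivOfEqBot (Ideal.ofList ([] : List A) • ⊤ : Submodule A M) (by simp)
    exact Module.Flat.of_linearEquiv (e.restrictScalars C)
  | a :: rs, M, _, _, _, _, _, h => by
    rw [isWeaklyRegular_cons_iff] at h
    obtain ⟨ha, hf⟩ := regular_flat_of_residue hn a h.1
    obtain ⟨hrs, hrf⟩ := weaklyRegular_flat_of_residue hn rs (QuotSMulTop a M)
      (((quotSwap M ((maximalIdeal C).map (algebraMap C A)) a).isWeaklyRegular_congr rs).2 h.2)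
    exact ⟨IsWeaklyRegular.cons ha hrs,
      Module.Flat.of_linearEquiv ((Submodule.quotOfListConsSMulTopEquivQuotSMulTopInner M a rs).restrictScalars C)⟩

variable (C A) in
theorem exists_pow_eq_bot [IsArtinianRing C] : ∃ n, maximalIdeal C ^ n = ⊥ :=
  (isArtinianRing_iff_isNilpotent_maximalIdeal C).1 ‹_›

theorem regular_flat_ring [IsArtinianRing C] [Module.Flat C A] (rs : List A)
    (h : IsRegular (A ⧸ (maximalIdeal C).map (algebraMap C A))
      (rs.map (Ideal.Quotient.mk ((maximalIdeal C).map (algebraMap C A))))) :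
    IsRegular A rs ∧ Module.Flat C (A ⧸ Ideal.ofList rs) := by
  obtain ⟨n, hn⟩ := exists_pow_eq_bot C
  set P := (maximalIdeal C).map (algebraMap C A)
  have h0 : IsWeaklyRegular (A ⧸ P) rs :=
    (isWeaklyRegular_map_algebraMap_iff (S := A ⧸ P) (A ⧸ P) rs).1 (by
      rw [Ideal.Quotient.algebraMap_eq]; exact h.toIsWeaklyRegular)
  have h1 : IsWeaklyRegular (A ⧸ (P • ⊤ : Submodule A A)) rs :=
    ((Submodule.quotEquivOfEq _ _ (show (P • ⊤ : Submodule A A) = P by
      rw [smul_eq_mul, Ideal.mul_top])).isWeaklyRegular_congr rs).2 h0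
  obtain ⟨hw, hf⟩ := weaklyRegular_flat_of_residue hn rs A h1
  refine ⟨⟨hw, fun htop => h.top_ne_smul ?_⟩, ?_⟩
  · rw [smul_eq_mul, Ideal.mul_top] at htop ⊢
    rw [← Ideal.map_ofList, ← htop, Ideal.map_top]
  · exact Module.Flat.of_linearEquiv ((Submodule.quotEquivOfEq _ _
      (show (Ideal.ofList rs • ⊤ : Submodule A A) = Ideal.ofList rs by rw [smul_eq_mul, Ideal.mul_top])).restrictScalars C).symm

/-- Nakayama along a nilpotent ideal, for a lift of generators of a flat quotient. -/
theorem eq_span_of_flat (K : Ideal C) {n : ℕ} (hn : K ^ n = ⊥) (I : Ideal A) [Module.Flat C (A ⧸ I)] {r : ℕ}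
    (a : Fin r → A) (ha : ∀ i, a i ∈ I)
    (h : I.map (Ideal.Quotient.mk (K.map (algebraMap C A))) ≤
      Ideal.span (Set.range fun i => Ideal.Quotient.mk (K.map (algebraMap C A)) (a i))) :
    I = Ideal.span (Set.range a) := by
  set P := K.map (algebraMap C A)
  set S := Ideal.span (Set.range a)
  have hS : S ≤ I := Ideal.span_le.2 (by rintro _ ⟨i, rfl⟩; exact ha i)
  have hstep : I ≤ S ⊔ P * I := by
    intro x hx
    have hx1 : Ideal.Quotient.mk P x ∈ S.map (Ideal.Quotient.mk P) := by
      rw [Ideal.map_span, ← Set.range_comp]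
      exact h (Ideal.mem_map_of_mem _ hx)
    obtain ⟨y, hy, hye⟩ := (Ideal.mem_map_iff_of_surjective _ Ideal.Quotient.mk_surjective).1 hx1
    have hd : x - y ∈ P := Ideal.Quotient.eq.1 hye.symm
    let N : Submodule C A := I.restrictScalars C
    let d : N := ⟨x - y, I.sub_mem hx (hS hy)⟩
    have hd' : Submodule.subtype N d ∈ K • (⊤ : Submodule C A) := by
      rw [Ideal.smul_top_eq_map, Submodule.restrictScalars_mem]
      show x - y ∈ (P : Ideal A)
      exact hd
    have hex : Function.Exact (Submodule.subtype N) ((Ideal.Quotient.mkₐ C I).toLinearMap) := fun z => by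
      constructor
      · intro hz; exact ⟨⟨z, Ideal.Quotient.eq_zero_iff_mem.1 hz⟩, rfl⟩
      · rintro ⟨z, rfl⟩; exact Ideal.Quotient.eq_zero_iff_mem.2 z.2
    have h2 := LocalCrit.mem_smul_of_map_mem_of_mulMap_injective (Submodule.subtype N) Subtype.val_injective
      _ Ideal.Quotient.mk_surjective hex K (LocalCrit.mulMap_injective K) hd'
    have h3 : (d : A) ∈ P * I := by
      refine Submodule.smul_induction_on h2 (fun c hc z _ => ?_) (fun u v hu hv => ?_)
      · show c • (z : A) ∈ P * I
        rw [Algebra.smul_def]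
        exact Ideal.mul_mem_mul (Ideal.mem_map_of_mem _ hc) z.2
      · exact add_mem hu hv
    exact Submodule.mem_sup.2 ⟨y, hy, x - y, h3, add_sub_cancel _ _⟩
  have hj : ∀ j, I ≤ S ⊔ P ^ j * I := fun j => by
    induction j with
    | zero => rw [pow_zero, one_mul]; exact le_sup_right
    | succ j ih =>
      refine ih.trans (sup_le le_sup_left ?_)
      refine (Ideal.mul_mono le_rfl hstep).trans ?_
      rw [Ideal.mul_sup, ← mul_assoc, ← pow_succ]
      exact sup_le (Ideal.mul_le_right.trans le_sup_left) le_sup_right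
  refine le_antisymm ((hj n).trans ?_) hS
  rw [← Ideal.map_pow, hn, Ideal.map_bot, Ideal.bot_mul, sup_bot_eq]

theorem exists_lifts (P I : Ideal A) {r : ℕ} (b : Fin r → A ⧸ P)
    (hI : I.map (Ideal.Quotient.mk P) = Ideal.span (Set.range b)) :
    ∃ a : Fin r → A, (∀ i, a i ∈ I) ∧ ∀ i, Ideal.Quotient.mk P (a i) = b i := by
  choose a ha hb using fun i => (Ideal.mem_map_iff_of_surjective _ Ideal.Quotient.mk_surjective).1
    (hI.symm ▸ (Ideal.subset_span ⟨i, rfl⟩ : b i ∈ Ideal.span (Set.range b)))
  exact ⟨a, ha, hb⟩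

end Flat

section CM

variable {R : Type u} [CommRing R]

theorem isWeaklyRegular_of_dim_cm [LocCoh.IsCohenMacaulayLocalRing R] (rs : List R) (hI : Ideal.ofList rs ≠ ⊤)
    (h : (rs.length : WithBot ℕ∞) + ringKrullDim (R ⧸ Ideal.ofList rs) = ringKrullDim R) :
    IsWeaklyRegular R rs := by
  set I := Ideal.ofList rs with hIdef
  have : Nontrivial (R ⧸ I) := Ideal.Quotient.nontrivial_iff.2 hI
  have : IsLocalRing (R ⧸ I) := .of_surjective' (Ideal.Quotient.mk I) Ideal.Quotient.mk_surjective
  obtain ⟨d, hd⟩ := SerreReg.exists_dim_nat R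
  obtain ⟨e, he⟩ := SerreReg.exists_dim_nat (R ⧸ I)
  have hde : rs.length + e = d := by rw [hd, he] at h; exact_mod_cast h
  obtain ⟨ā, hā⟩ := SerreReg.exists_sop (R ⧸ I) e he
  choose a' ha' using fun i => Ideal.Quotient.mk_surjective (ā i)
  let a : Fin (rs.length + e) → R := Fin.append (fun i => rs[(i : ℕ)]) a'
  have hmap : (Ideal.span (Set.range a)).map (Ideal.Quotient.mk I) = Ideal.span (Set.range ā) := by
    rw [Ideal.map_span]
    refine le_antisymm (Ideal.span_le.2 ?_) (Ideal.span_le.2 ?_)
    · rintro _ ⟨_, ⟨i, rfl⟩, rfl⟩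
      cases i using Fin.addCases with
      | left i =>
        simp only [a, Fin.append_left]
        rw [Ideal.Quotient.eq_zero_iff_mem.2 (Ideal.subset_span (s := {r | r ∈ rs}) (List.getElem_mem i.2))]
        exact Submodule.zero_mem _
      | right i =>
        simp only [a, Fin.append_right, ha']
        exact Ideal.subset_span ⟨i, rfl⟩
    · rintro _ ⟨i, rfl⟩
      exact Ideal.subset_span ⟨a (Fin.natAdd _ i), ⟨_, rfl⟩, by simp [a, ha']⟩
  have hle : I ≤ Ideal.span (Set.range a) := by
    refine Ideal.span_le.2 fun v hv => ?_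
    obtain ⟨i, hi, rfl⟩ := List.getElem_of_mem hv
    exact Ideal.subset_span ⟨Fin.castAdd e ⟨i, hi⟩, Fin.append_left _ _ _⟩
  have hsop : CMSop.IsSop a := by
    have hc : ((Ideal.span (Set.range a)).map (Ideal.Quotient.mk I)).comap (Ideal.Quotient.mk I) =
        Ideal.span (Set.range a) := by
      rw [Ideal.comap_map_of_surjective' _ Ideal.Quotient.mk_surjective, Ideal.mk_ker, sup_eq_left.2 hle]
    rw [CMSop.IsSop, ← hc, hmap, ← Ideal.comap_radical, show (Ideal.span (Set.range ā)).radical = _ from hā]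
    have := Ideal.comap_isMaximal_of_surjective (Ideal.Quotient.mk I) Ideal.Quotient.mk_surjective
      (K := maximalIdeal (R ⧸ I))
    exact IsLocalRing.eq_maximalIdeal this
  have hR : CMSop.HasRegSeq (R := R) (rs.length + e) R := by
    rw [hde]
    refine CMSop.hasRegSeq_of_depth (le_of_eq ?_)
    have h := LocCoh.IsCohenMacaulayLocalRing.supportDim_eq_depth (R := R)
    rw [Module.supportDim_self_eq_ringKrullDim, hd] at h
    exact_mod_cast h
  have := SerreReg.isWeaklyRegular_take_of_isSop hsop hR rs.length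
  rwa [List.ofFn_fin_append, List.ofFn_getElem, List.take_left] at this

end CM

theorem ringKrullDim_quotient_congr {R : Type u} [CommRing R] {I I' : Ideal R} (h : I.radical = I'.radical) :
    ringKrullDim (R ⧸ I) = ringKrullDim (R ⧸ I') := by
  rw [ringKrullDim_quotient, ringKrullDim_quotient, ← PrimeSpectrum.zeroLocus_radical I, h,
    PrimeSpectrum.zeroLocus_radical I']

theorem isNoetherianRing_of_quotient {R : Type u} [CommRing R] (P : Ideal R) (hP : P.FG) (hnil : P ≤ nilradical R)
    [IsNoetherianRing (R ⧸ P)] : IsNoetherianRing R := by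
  refine IsNoetherianRing.of_prime fun p hp => ?_
  have hPp : P ≤ p := hnil.trans (nilradical_le_prime p)
  refine Submodule.fg_of_fg_map_of_fg_inf_ker (Submodule.mkQ P) ?_ ?_
  · have hbar : (p.map (Ideal.Quotient.mk P)).FG := IsNoetherian.noetherian _
    obtain ⟨s, hs⟩ := hbar
    classical
    choose g hg hge using fun x : s => (Ideal.mem_map_iff_of_surjective _ Ideal.Quotient.mk_surjective).1
      (hs.le (Ideal.subset_span x.2))
    refine ⟨Finset.univ.image (fun x : s => Ideal.Quotient.mk P (g x)), le_antisymm ?_ ?_⟩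
    · refine Submodule.span_le.2 fun y hy => ?_
      obtain ⟨x, -, rfl⟩ := Finset.mem_image.1 (Finset.mem_coe.1 hy)
      exact ⟨g x, hg x, rfl⟩
    · rintro _ ⟨y, hy, rfl⟩
      have h1 : Ideal.Quotient.mk P y ∈ Submodule.span (R ⧸ P) (s : Set (R ⧸ P)) := hs.ge (Ideal.mem_map_of_mem _ hy)
      have h2 : (Finset.univ.image (fun x : s => Ideal.Quotient.mk P (g x)) : Set (R ⧸ P)) = (s : Set (R ⧸ P)) := by
        ext z; simp [hge]
      rw [h2]
      show Ideal.Quotient.mk P y ∈ _
      rw [← Submodule.restrictScalars_mem R, Submodule.restrictScalars_span R (R ⧸ P) Ideal.Quotient.mk_surjective] at h1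
      exact h1
  · rwa [Submodule.ker_mkQ, inf_eq_right.2 hPp]

end Groth.Agent.FlatLift
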