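import Mathlib.RingTheory.Flat.EquationalCriterion
import Mathlib.RingTheory.Artinian.Ring
import Mathlib.RingTheory.MvPolynomial.Basic
import Mathlib.RingTheory.Ideal.Quotient.Operations
import Mathlib.RingTheory.LocalRing.Basic

/-!
Flat deformations of polynomial quotients over Artinian local rings.
-/

set_option autoImplicit false

namespace Groth.Agent.FlatLift

universe u v w

/-- Nakayama for a nilpotent ideal: a submodule surjecting modulo the ideal is everything. -/
theorem le_of_le_sup_smul_of_nilpotent {R : Type u} [CommRing R] {M : Type w} [AddCommGroup M] [Module R M]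
    {J : Ideal R} {e : ℕ} (hJ : J ^ e = ⊥) {N K : Submodule R M} (h : K ≤ N ⊔ J • K) : K ≤ N := by
  have key : ∀ i : ℕ, K ≤ N ⊔ J ^ i • K := by
    intro i
    induction i with
    | zero => rw [pow_zero, Ideal.one_eq_top, Submodule.top_smul]; exact le_sup_right
    | succ i ih =>
      refine ih.trans (sup_le le_sup_left ?_)
      refine (Submodule.smul_mono le_rfl h).trans ?_
      rw [Submodule.smul_sup, ← Submodule.mul_smul, ← pow_succ]
      exact sup_le_sup_right Submodule.smul_le_right _
  simpa [hJ] using key e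

/-- The kernel of a surjection onto a flat module meets `I M` in `I` times the kernel. -/
theorem inf_smul_le_smul_ker {R : Type u} [CommRing R] {M : Type w} [AddCommGroup M] [Module R M]
    {N : Type v} [AddCommGroup N] [Module R N] [Module.Flat R N] (ψ : M →ₗ[R] N) (hψ : Function.Surjective ψ)
    (I : Ideal R) {x : M} (hx : x ∈ I • (⊤ : Submodule R M)) (hx0 : ψ x = 0) : x ∈ I • LinearMap.ker ψ := by
  classical
  obtain ⟨l, a, p, ha, rfl⟩ : ∃ (l : ℕ) (a : Fin l → R) (p : Fin l → M), (∀ i, a i ∈ I) ∧ ∑ i, a i • p i = x := by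
    refine Submodule.smul_induction_on hx (fun r hr m _ => ⟨1, fun _ => r, fun _ => m, fun _ => hr, by simp⟩) ?_
    rintro x y ⟨l, a, p, ha, rfl⟩ ⟨l', a', p', ha', rfl⟩
    refine ⟨l + l', Fin.append a a', Fin.append p p', fun i => ?_, by simp [Fin.sum_univ_add]⟩
    exact Fin.addCases (fun i => by simpa using ha i) (fun i => by simpa using ha' i) i
  have h0 : ∑ i, a i • ψ (p i) = 0 := by rw [← hx0, map_sum]; simp
  obtain ⟨s, c, y, hy, hc⟩ := (Module.Flat.iff_forall_isTrivialRelation.1 ‹_›) h0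
  choose z hz using fun j => hψ (y j)
  have hsplit : ∑ i, a i • p i = ∑ i, a i • (p i - ∑ j, c i j • z j) := by
    have h1 : ∑ i, a i • (∑ j, c i j • z j) = 0 := by
      simp_rw [Finset.smul_sum, smul_smul]
      rw [Finset.sum_comm]
      simp_rw [← Finset.sum_smul]
      exact Finset.sum_eq_zero fun j _ => by rw [hc j, zero_smul]
    simp [smul_sub, Finset.sum_sub_distrib, h1]
  rw [hsplit]
  refine sum_mem fun i _ => Submodule.smul_mem_smul (ha i) ?_
  simp [hy i, hz]

theorem exists_lifts
    {A' : Type u} [CommRing A'] [IsArtinianRing A'] [IsLocalRing A'] (I : Ideal A') (hI : I ≠ ⊤)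
    {n m : ℕ} (f : Fin m → MvPolynomial (Fin n) (A' ⧸ I))
    {B' : Type v} [CommRing B'] [Algebra A' B'] [Module.Flat A' B']
    (π : B' →+* MvPolynomial (Fin n) (A' ⧸ I) ⧸ Ideal.span (Set.range f))
    (hπ : Function.Surjective π) (hker : RingHom.ker π = I.map (algebraMap A' B'))
    (hcomp : π.comp (algebraMap A' B') =
      ((Ideal.Quotient.mk (Ideal.span (Set.range f))).comp MvPolynomial.C).comp (Ideal.Quotient.mk I)) :
    ∃ (f' : Fin m → MvPolynomial (Fin n) A') (ψ : MvPolynomial (Fin n) A' →ₐ[A'] B'),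
      (∀ i, MvPolynomial.map (Ideal.Quotient.mk I) (f' i) = f i) ∧
      Function.Surjective ψ ∧ RingHom.ker ψ.toRingHom = Ideal.span (Set.range f') ∧
      ∀ q, π (ψ q) = Ideal.Quotient.mk (Ideal.span (Set.range f)) (MvPolynomial.map (Ideal.Quotient.mk I) q) := by
  classical
  obtain ⟨e, he⟩ : IsNilpotent I := by
    obtain ⟨e, he⟩ : IsNilpotent (IsLocalRing.maximalIdeal A') := by
      rw [← IsLocalRing.jacobson_eq_maximalIdeal ⊥ bot_ne_top]
      exact IsArtinianRing.isNilpotent_jacobson_bot
    exact ⟨e, le_bot_iff.1 ((Ideal.pow_right_mono (IsLocalRing.le_maximalIdeal hI) e).trans he.le)⟩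
  choose b hb using fun i : Fin n => hπ (Ideal.Quotient.mk _ (MvPolynomial.X i))
  let ψ : MvPolynomial (Fin n) A' →ₐ[A'] B' := MvPolynomial.aeval b
  let red : MvPolynomial (Fin n) A' →+* MvPolynomial (Fin n) (A' ⧸ I) := MvPolynomial.map (Ideal.Quotient.mk I)
  have hred : Function.Surjective red := MvPolynomial.map_surjective _ Ideal.Quotient.mk_surjective
  have hπψ : π.comp ψ.toRingHom = (Ideal.Quotient.mk (Ideal.span (Set.range f))).comp red := by
    refine MvPolynomial.ringHom_ext (fun a => ?_) (fun i => ?_)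
    · simpa [ψ, red] using RingHom.congr_fun hcomp a
    · simp [ψ, red, hb]
  have hπψ' : ∀ q, π (ψ q) = Ideal.Quotient.mk _ (red q) := fun q => RingHom.congr_fun hπψ q
  have hψ : Function.Surjective ψ := by
    rw [← AlgHom.coe_toLinearMap, ← LinearMap.range_eq_top]
    refine top_le_iff.1 (le_of_le_sup_smul_of_nilpotent he fun y _ => ?_)
    obtain ⟨q, hq⟩ := Ideal.Quotient.mk_surjective (π y)
    obtain ⟨q, rfl⟩ := hred q
    have h1 : y - ψ q ∈ I • (⊤ : Submodule A' B') := by
      rw [Ideal.smul_top_eq_map, Submodule.restrictScalars_mem, ← hker, RingHom.mem_ker, map_sub, hπψ', hq, sub_self]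
    rw [← add_sub_cancel (ψ q) y]
    exact Submodule.add_mem_sup ⟨q, rfl⟩ h1
  have hlift : ∀ i, ∃ p, ψ p = 0 ∧ red p = f i := by
    intro i
    obtain ⟨g, hg⟩ := hred (f i)
    have h1 : ψ g ∈ RingHom.ker π := by
      rw [RingHom.mem_ker, hπψ', hg]
      exact Ideal.Quotient.eq_zero_iff_mem.2 (Ideal.subset_span ⟨i, rfl⟩)
    rw [hker, ← show (ψ : MvPolynomial (Fin n) A' →+* B').comp MvPolynomial.C = algebraMap A' B' from
      RingHom.ext ψ.commutes, ← Ideal.map_map] at h1
    obtain ⟨d, hd, hd'⟩ := (Ideal.mem_map_iff_of_surjective (ψ : MvPolynomial (Fin n) A' →+* B') hψ).1 h1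
    refine ⟨g - d, by rw [map_sub, sub_eq_zero]; exact hd'.symm, ?_⟩
    have : red d = 0 := by
      have h2 : I.map MvPolynomial.C ≤ RingHom.ker red := Ideal.map_le_iff_le_comap.2 fun a ha => by
        rw [Ideal.mem_comap, RingHom.mem_ker, MvPolynomial.map_C, Ideal.Quotient.eq_zero_iff_mem.2 ha, map_zero]
      exact h2 hd
    rw [map_sub, this, sub_zero, hg]
  choose f' hf'0 hf' using hlift
  refine ⟨f', ψ, hf', hψ, le_antisymm ?_ (Ideal.span_le.2 (Set.range_subset_iff.2 fun i => hf'0 i)), hπψ'⟩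
  change (LinearMap.ker ψ.toLinearMap : Submodule A' _) ≤ (Ideal.span (Set.range f')).restrictScalars A'
  refine le_of_le_sup_smul_of_nilpotent he fun p hp => ?_
  have hp' : ψ p = 0 := hp
  have h3 : red p ∈ (Ideal.span (Set.range f')).map red := by
    rw [Ideal.map_span, ← Set.range_comp, show red ∘ f' = f from funext hf', ← Ideal.Quotient.eq_zero_iff_mem,
      ← hπψ', hp', map_zero]
  obtain ⟨t, ht, ht'⟩ := (Ideal.mem_map_iff_of_surjective red hred).1 h3
  have ht0 : ψ t = 0 := by
    have h4 : Ideal.span (Set.range f') ≤ RingHom.ker ψ := Ideal.span_le.2 (Set.range_subset_iff.2 hf'0)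
    exact h4 ht
  have h5 : p - t ∈ I • (⊤ : Submodule A' (MvPolynomial (Fin n) A')) := by
    rw [Ideal.smul_top_eq_map, Submodule.restrictScalars_mem, MvPolynomial.algebraMap_eq,
      MvPolynomial.mem_map_C_iff]
    intro d
    have h6 := congrArg (MvPolynomial.coeff d) ht'
    rw [MvPolynomial.coeff_map, MvPolynomial.coeff_map, Ideal.Quotient.eq] at h6
    rw [MvPolynomial.coeff_sub]
    simpa using neg_mem h6
  rw [← add_sub_cancel t p]
  exact Submodule.add_mem_sup ht (inf_smul_le_smul_ker ψ.toLinearMap hψ I h5 (by simp [hp', ht0]))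

end Groth.Agent.FlatLift
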