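import Mathlib.RingTheory.Flat.Stability
import Mathlib.RingTheory.Flat.Tensor
import Mathlib.LinearAlgebra.TensorProduct.Quotient
import Mathlib.LinearAlgebra.TensorProduct.RightExactness
import Mathlib.RingTheory.Ideal.Quotient.Operations
import Mathlib.RingTheory.Ideal.Over
import Mathlib.Algebra.Module.Torsion.Basic

/-! Flat lifts of ideals along a square-zero extension form a pseudotorsor. -/

universe u

open TensorProduct

noncomputable section

namespace Groth.Agent.FlatLift

section Criterion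

variable {R : Type u} [CommRing R]

theorem rTensor_injective_of_killed {S : Type u} [CommRing S] [Algebra R S] {Q : Type u} [AddCommGroup Q] [Module R Q]
    [Module.Flat S (S ⊗[R] Q)] {L L' : Type u} [AddCommGroup L] [Module R L] [Module S L] [IsScalarTower R S L]
    [AddCommGroup L'] [Module R L'] [Module S L'] [IsScalarTower R S L'] (f : L →ₗ[S] L') (hf : Function.Injective f) :
    Function.Injective ((f.restrictScalars R).rTensor Q) := by
  have h := Module.Flat.rTensor_preserves_injective_linearMap (M := S ⊗[R] Q) f hf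
  let e := TensorProduct.AlgebraTensorModule.cancelBaseChange R S S L Q
  let e' := TensorProduct.AlgebraTensorModule.cancelBaseChange R S S L' Q
  have hcomm : ∀ z, (f.restrictScalars R).rTensor Q (e z) = e' (f.rTensor (S ⊗[R] Q) z) := fun z => by
    induction z using TensorProduct.induction_on with
    | zero => simp
    | add x y hx hy => simp [hx, hy]
    | tmul l w =>
      induction w using TensorProduct.induction_on with
      | zero => simp
      | add x y hx hy => simp [tmul_add, hx, hy]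
      | tmul s q => simp [e, e', LinearMap.map_smul]
  intro a b hab
  obtain ⟨a, rfl⟩ := e.surjective a
  obtain ⟨b, rfl⟩ := e.surjective b
  rw [hcomm, hcomm] at hab
  exact congrArg e (h (e'.injective hab))

/-- Flatness along a square-zero ideal, without noetherian hypotheses. -/
theorem flat_of_sq_zero (J : Ideal R) (hJ : J * J = ⊥) {Q : Type u} [AddCommGroup Q] [Module R Q]
    (h1 : Function.Injective (LinearMap.rTensor Q (Submodule.subtype J)))
    (h2 : Module.Flat (R ⧸ J) ((R ⧸ J) ⊗[R] Q)) : Module.Flat R Q := by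
  rw [Module.Flat.iff_rTensor_injective']
  intro I
  refine (injective_iff_map_eq_zero _).2 fun z hz => ?_
  -- the part of `z` modulo `J`
  let Ibar : Ideal (R ⧸ J) := I.map (Ideal.Quotient.mk J)
  let q : I →ₗ[R] Ibar :=
    { toFun := fun i => ⟨Ideal.Quotient.mk J i, Ideal.mem_map_of_mem _ i.2⟩
      map_add' := fun _ _ => Subtype.ext (map_add _ _ _)
      map_smul' := fun r i => Subtype.ext (map_mul (Ideal.Quotient.mk J) r i) }
  have hq : Function.Surjective q := fun y => by
    obtain ⟨i, hi, he⟩ := (Ideal.mem_map_iff_of_surjective _ Ideal.Quotient.mk_surjective).1 y.2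
    exact ⟨⟨i, hi⟩, Subtype.ext he⟩
  let inc : (I ⊓ J : Ideal R) →ₗ[R] I := Submodule.inclusion inf_le_left
  have hex : Function.Exact inc q := fun i => by
    constructor
    · intro h
      exact ⟨⟨i, i.2, Ideal.Quotient.eq_zero_iff_mem.1 (congrArg Subtype.val h)⟩, rfl⟩
    · rintro ⟨j, rfl⟩
      exact Subtype.ext (Ideal.Quotient.eq_zero_iff_mem.2 j.2.2)
  have hinjbar := rTensor_injective_of_killed (R := R) (Q := Q) (Submodule.subtype Ibar) Subtype.val_injective
  have hqz : q.rTensor Q z = 0 := hinjbar (by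
    rw [map_zero, ← LinearMap.comp_apply, ← LinearMap.rTensor_comp]
    have hcomp : (Submodule.subtype Ibar).restrictScalars R ∘ₗ q =
        (Submodule.mkQ J) ∘ₗ Submodule.subtype I := LinearMap.ext fun i => rfl
    rw [hcomp, LinearMap.rTensor_comp, LinearMap.comp_apply, hz, map_zero])
  obtain ⟨y, rfl⟩ := (rTensor_exact Q hex hq z).1 hqz
  -- inside `J` the quotient ring acts
  let _ : Module (R ⧸ J) J := Module.IsTorsionBySet.module (I := J) (M := J) fun x r =>
    Subtype.ext (show (r : R) * (x : R) = 0 by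
      have := Ideal.mul_mem_mul r.2 x.2
      rwa [hJ, Submodule.mem_bot] at this)
  let _ : Module (R ⧸ J) (I ⊓ J : Ideal R) := Module.IsTorsionBySet.module (I := J) (M := (I ⊓ J : Ideal R)) fun x r =>
    Subtype.ext (show (r : R) * (x : R) = 0 by
      have := Ideal.mul_mem_mul r.2 x.2.2
      rwa [hJ, Submodule.mem_bot] at this)
  have : IsScalarTower R (R ⧸ J) J := Module.IsTorsionBySet.isScalarTower _
  have : IsScalarTower R (R ⧸ J) (I ⊓ J : Ideal R) := Module.IsTorsionBySet.isScalarTower _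
  let g : (I ⊓ J : Ideal R) →ₗ[R ⧸ J] J :=
    LinearMap.extendScalarsOfSurjective Ideal.Quotient.mk_surjective (Submodule.inclusion inf_le_right)
  have hg := rTensor_injective_of_killed (R := R) (Q := Q) g fun a b h =>
    Submodule.inclusion_injective inf_le_right h
  have hy : (g.restrictScalars R).rTensor Q y = 0 := h1 (by
    rw [map_zero, ← LinearMap.comp_apply, ← LinearMap.rTensor_comp]
    rw [← LinearMap.comp_apply, ← LinearMap.rTensor_comp] at hz
    have e : Submodule.subtype J ∘ₗ g.restrictScalars R = Submodule.subtype I ∘ₗ inc := LinearMap.ext fun i => rfl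
    rw [e]; exact hz)
  rw [hg (hy.trans (map_zero _).symm), map_zero]

end Criterion

section Lift

variable {A B : Type u} [CommRing A] [CommRing B] [Algebra A B] (J : Ideal A)

/-- Multiplication `B ⊗ J → B`. -/
def mu (z : B ⊗[A] J) : B := TensorProduct.rid A B (LinearMap.lTensor B (Submodule.subtype J) z)

theorem mu_tmul (b : B) (j : J) : mu J (b ⊗ₜ j) = (j : A) • b := by simp [mu]

theorem mu_add (z w : B ⊗[A] J) : mu J (z + w) = mu J z + mu J w := by simp [mu]

theorem mu_sub (z w : B ⊗[A] J) : mu J (z - w) = mu J z - mu J w := by simp [mu]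

theorem mu_zero : mu (B := B) J 0 = 0 := by simp [mu]

theorem mu_smul (b : B) (z : B ⊗[A] J) : mu J (b • z) = b * mu J z := by
  induction z using TensorProduct.induction_on with
  | zero => rw [smul_zero, mu_zero, mul_zero]
  | add x y hx hy => rw [smul_add, mu_add, mu_add, hx, hy, mul_add]
  | tmul c j => rw [TensorProduct.smul_tmul', mu_tmul, mu_tmul, smul_eq_mul, mul_smul_comm]

theorem mu_mem (z : B ⊗[A] J) : mu J z ∈ J.map (algebraMap A B) := by
  induction z using TensorProduct.induction_on with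
  | zero => rw [mu_zero]; exact zero_mem _
  | add x y hx hy => rw [mu_add]; exact add_mem hx hy
  | tmul c j => rw [mu_tmul, Algebra.smul_def]; exact Ideal.mul_mem_right _ _ (Ideal.mem_map_of_mem _ j.2)

theorem exists_mu {y : B} (hy : y ∈ J.map (algebraMap A B)) : ∃ z : B ⊗[A] J, mu J z = y := by
  induction hy using Submodule.span_induction with
  | mem y hy =>
    obtain ⟨j, hj, rfl⟩ := hy
    exact ⟨1 ⊗ₜ ⟨j, hj⟩, by rw [mu_tmul, Algebra.smul_def, mul_one]⟩
  | zero => exact ⟨0, mu_zero J⟩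
  | add x y _ _ hx hy =>
    obtain ⟨z, rfl⟩ := hx
    obtain ⟨w, rfl⟩ := hy
    exact ⟨z + w, mu_add J z w⟩
  | smul b x _ hx =>
    obtain ⟨z, rfl⟩ := hx
    exact ⟨b • z, mu_smul J b z⟩

theorem mu_injective [Module.Flat A B] : Function.Injective (mu (B := B) J) :=
  (TensorProduct.rid A B).injective.comp
    (Module.Flat.lTensor_preserves_injective_linearMap _ Subtype.val_injective)

variable (I : Ideal (B ⧸ J.map (algebraMap A B)))

/-- The class of `z` in `(B̄/I) ⊗ J`. -/
def rho (z : B ⊗[A] J) : ((B ⧸ J.map (algebraMap A B)) ⧸ I) ⊗[A] J :=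
  LinearMap.rTensor J (IsScalarTower.toAlgHom A B ((B ⧸ J.map (algebraMap A B)) ⧸ I)).toLinearMap z

theorem rho_add (z w : B ⊗[A] J) : rho J I (z + w) = rho J I z + rho J I w := map_add _ _ _

theorem rho_sub (z w : B ⊗[A] J) : rho J I (z - w) = rho J I z - rho J I w := map_sub _ _ _

theorem rho_zero : rho J I (0 : B ⊗[A] J) = 0 := map_zero _

theorem rho_smul (b : B) (z : B ⊗[A] J) : rho J I (b • z) = b • rho J I z := by
  induction z using TensorProduct.induction_on with
  | zero => rw [smul_zero, rho_zero, smul_zero]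
  | add x y hx hy => rw [smul_add, rho_add, rho_add, hx, hy, smul_add]
  | tmul c j =>
    show rho J I ((b • c) ⊗ₜ j) = b • rho J I (c ⊗ₜ j)
    simp only [rho, LinearMap.rTensor_tmul, TensorProduct.smul_tmul', AlgHom.toLinearMap_apply,
      IsScalarTower.toAlgHom_apply, smul_eq_mul, map_mul]
    exact congrArg (· ⊗ₜ[A] j) (Algebra.smul_def b _).symm

theorem rho_surjective : Function.Surjective (rho (B := B) J I) :=
  LinearMap.rTensor_surjective _ fun y => by
    obtain ⟨y, rfl⟩ := Ideal.Quotient.mk_surjective y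
    obtain ⟨y, rfl⟩ := Ideal.Quotient.mk_surjective y
    exact ⟨y, rfl⟩

variable {J I} (hJ : J * J = ⊥) {I' : Ideal B} (hI' : I'.map (Ideal.Quotient.mk (J.map (algebraMap A B))) = I)
include hJ hI'

/-- The kernel of `rho` read in any lift of `I`. -/
theorem rho_eq_zero_iff (z : B ⊗[A] J) :
    rho J I z = 0 ↔ LinearMap.rTensor J (Ideal.Quotient.mkₐ A I').toLinearMap z = 0 := by
  constructor
  · intro h
    let T : Submodule A B := (I.comap (Ideal.Quotient.mk (J.map (algebraMap A B)))).restrictScalars A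
    have hex : Function.Exact (Submodule.subtype T)
        (IsScalarTower.toAlgHom A B ((B ⧸ (J.map (algebraMap A B))) ⧸ I)).toLinearMap := fun b => by
      constructor
      · intro hb; exact ⟨⟨b, (Ideal.Quotient.eq_zero_iff_mem (I := I)).1 hb⟩, rfl⟩
      · rintro ⟨t, rfl⟩; exact Ideal.Quotient.eq_zero_iff_mem.2 t.2
    obtain ⟨w, rfl⟩ := (rTensor_exact J hex (fun y => by
      obtain ⟨y, rfl⟩ := Ideal.Quotient.mk_surjective y
      obtain ⟨y, rfl⟩ := Ideal.Quotient.mk_surjective y
      exact ⟨y, rfl⟩) z).1 h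
    rw [← LinearMap.comp_apply, ← LinearMap.rTensor_comp]
    clear h
    induction w using TensorProduct.induction_on with
    | zero => simp
    | add x y hx hy => rw [map_add, hx, hy, add_zero]
    | tmul t j =>
      obtain ⟨t, ht⟩ := t
      have ht' : Ideal.Quotient.mk (J.map (algebraMap A B)) t ∈ I'.map (Ideal.Quotient.mk (J.map (algebraMap A B))) := hI'.symm ▸ ht
      obtain ⟨i, hi, he⟩ := (Ideal.mem_map_iff_of_surjective _ Ideal.Quotient.mk_surjective).1 ht'
      obtain ⟨w, hw⟩ := exists_mu J (Ideal.Quotient.eq.1 he.symm : t - i ∈ (J.map (algebraMap A B)))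
      show (Ideal.Quotient.mk I' t) ⊗ₜ[A] j = 0
      rw [show t = i + mu J w by rw [hw, add_sub_cancel], map_add, Ideal.Quotient.eq_zero_iff_mem.2 hi, zero_add]
      clear hw
      induction w using TensorProduct.induction_on with
      | zero => rw [mu_zero, map_zero, zero_tmul]
      | add x y hx hy => rw [mu_add, map_add, add_tmul, hx, hy, add_zero]
      | tmul b j' =>
        have hjj : (j' : A) • j = 0 := Subtype.ext (by
          have := Ideal.mul_mem_mul j'.2 j.2
          rwa [hJ, Submodule.mem_bot] at this)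
        rw [mu_tmul, ← Ideal.Quotient.mkₐ_eq_mk A, map_smul, smul_tmul, hjj, tmul_zero]
  · intro h
    let fac : (B ⧸ I') →ₐ[A] (B ⧸ (J.map (algebraMap A B))) ⧸ I := Ideal.Quotient.liftₐ I' (IsScalarTower.toAlgHom A B _) fun a ha =>
      Ideal.Quotient.eq_zero_iff_mem.2 (hI' ▸ Ideal.mem_map_of_mem _ ha)
    have e : rho J I z = fac.toLinearMap.rTensor J (LinearMap.rTensor J (Ideal.Quotient.mkₐ A I').toLinearMap z) := by
      rw [← LinearMap.comp_apply, ← LinearMap.rTensor_comp]; rfl
    rw [e, h, map_zero]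

theorem mu_mem_of_rho {z : B ⊗[A] J} (h : rho J I z = 0) : mu J z ∈ I' := by
  have h1 := (rho_eq_zero_iff hJ hI' z).1 h
  rw [← Ideal.Quotient.eq_zero_iff_mem]
  have : ∀ w : B ⊗[A] J, Ideal.Quotient.mk I' (mu J w) = TensorProduct.rid A (B ⧸ I')
      (LinearMap.lTensor (B ⧸ I') (Submodule.subtype J) (LinearMap.rTensor J (Ideal.Quotient.mkₐ A I').toLinearMap w)) := by
    intro w
    induction w using TensorProduct.induction_on with
    | zero => simp [mu_zero]
    | add x y hx hy => simp [mu_add, hx, hy]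
    | tmul b j => rw [mu_tmul, ← Ideal.Quotient.mkₐ_eq_mk A, map_smul]; simp
  rw [this, h1, map_zero, map_zero]

theorem rho_of_mu_mem [Module.Flat A (B ⧸ I')] {z : B ⊗[A] J} (h : mu J z ∈ I') : rho J I z = 0 := by
  rw [rho_eq_zero_iff hJ hI']
  refine Module.Flat.lTensor_preserves_injective_linearMap (M := B ⧸ I') (Submodule.subtype J) Subtype.val_injective ?_
  refine (TensorProduct.rid A (B ⧸ I')).injective ?_
  rw [map_zero, map_zero]
  rw [← Ideal.Quotient.eq_zero_iff_mem] at h
  rw [← h]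
  clear h
  induction z using TensorProduct.induction_on with
  | zero => simp [mu_zero]
  | add x y hx hy => simp [mu_add, hx, hy]
  | tmul b j => rw [mu_tmul, ← Ideal.Quotient.mkₐ_eq_mk A, map_smul]; simp

end Lift

section Torsor

variable {A B : Type u} [CommRing A] [CommRing B] [Algebra A B] {J : Ideal A} (hJ : J * J = ⊥)
variable {I : Ideal (B ⧸ J.map (algebraMap A B))}

local notation "π₀" => Ideal.Quotient.mk (J.map (algebraMap A B))

include hJ

theorem existsUnique_diff [Module.Flat A B] (I' I'' : Ideal B) [Module.Flat A (B ⧸ I')] [Module.Flat A (B ⧸ I'')]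
    (hI' : I'.map π₀ = I) (hI'' : I''.map π₀ = I) :
    ∃! φ : I →ₗ[B] (((B ⧸ J.map (algebraMap A B)) ⧸ I) ⊗[A] J),
      ∀ (x : B ⧸ J.map (algebraMap A B)) (hx : x ∈ I) (x' x'' : B), x' ∈ I' → x'' ∈ I'' →
        π₀ x' = x → π₀ x'' = x → ∀ z : B ⊗[A] J, mu J z = x'' - x' → rho J I z = φ ⟨x, hx⟩ := by
  have hs : ∀ (L : Ideal B), L.map π₀ = I → ∀ x : I, ∃ x' ∈ L, π₀ x' = x := fun L hL x =>
    (Ideal.mem_map_iff_of_surjective _ Ideal.Quotient.mk_surjective).1 (hL.symm ▸ x.2)
  choose l' hl' he' using hs I' hI'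
  choose l'' hl'' he'' using hs I'' hI''
  choose zx hzx using fun x : I => exists_mu J (Ideal.Quotient.eq.1 ((he'' x).trans (he' x).symm) : l'' x - l' x ∈ _)
  have key : ∀ (x : I) (x' x'' : B), x' ∈ I' → x'' ∈ I'' → π₀ x' = x → π₀ x'' = x →
      ∀ z : B ⊗[A] J, mu J z = x'' - x' → rho J I z = rho J I (zx x) := by
    intro x x' x'' h' h'' e' e'' z hz
    obtain ⟨w', hw'⟩ := exists_mu J (Ideal.Quotient.eq.1 (e'.trans (he' x).symm) : x' - l' x ∈ _)
    obtain ⟨w'', hw''⟩ := exists_mu J (Ideal.Quotient.eq.1 (e''.trans (he'' x).symm) : x'' - l'' x ∈ _)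
    have r' : rho J I w' = 0 := rho_of_mu_mem hJ hI' (hw' ▸ I'.sub_mem h' (hl' x))
    have r'' : rho J I w'' = 0 := rho_of_mu_mem hJ hI'' (hw'' ▸ I''.sub_mem h'' (hl'' x))
    have : z = zx x + w'' - w' := mu_injective J (by rw [mu_sub, mu_add, hz, hzx, hw', hw'']; ring)
    rw [this, rho_sub, rho_add, r', r'', add_zero, sub_zero]
  let φ : I →ₗ[B] (((B ⧸ J.map (algebraMap A B)) ⧸ I) ⊗[A] J) :=
    { toFun := fun x => rho J I (zx x)
      map_add' := fun x y => by
        rw [← rho_add]
        exact (key (x + y) (l' x + l' y) (l'' x + l'' y) (add_mem (hl' x) (hl' y)) (add_mem (hl'' x) (hl'' y))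
          (by rw [map_add, he', he']; rfl) (by rw [map_add, he'', he'']; rfl) _
          (by rw [mu_add, hzx, hzx]; ring)).symm
      map_smul' := fun b x => by
        rw [RingHom.id_apply, ← rho_smul]
        exact (key (b • x) (b * l' x) (b * l'' x) (Ideal.mul_mem_left _ _ (hl' x)) (Ideal.mul_mem_left _ _ (hl'' x))
          (by rw [map_mul, he', Submodule.coe_smul_of_tower, Algebra.smul_def]; rfl)
          (by rw [map_mul, he'', Submodule.coe_smul_of_tower, Algebra.smul_def]; rfl) _
          (by rw [mu_smul, hzx]; ring)).symm }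
  refine ⟨φ, fun x hx x' x'' h' h'' e' e'' z hz => key ⟨x, hx⟩ x' x'' h' h'' e' e'' z hz, fun ψ hψ => ?_⟩
  refine LinearMap.ext fun x => ?_
  exact (hψ x x.2 _ _ (hl' x) (hl'' x) (he' x) (he'' x) _ (hzx x)).symm

theorem existsUnique_translate [Module.Flat A B] [Module.Flat (A ⧸ J) ((B ⧸ J.map (algebraMap A B)) ⧸ I)]
    (I' : Ideal B) [Module.Flat A (B ⧸ I')] (hI' : I'.map π₀ = I)
    (φ : I →ₗ[B] (((B ⧸ J.map (algebraMap A B)) ⧸ I) ⊗[A] J)) :
    ∃! I'' : Ideal B, Module.Flat A (B ⧸ I'') ∧ I''.map π₀ = I ∧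
      ∀ (x : B ⧸ J.map (algebraMap A B)) (hx : x ∈ I) (x' x'' : B), x' ∈ I' → x'' ∈ I'' →
        π₀ x' = x → π₀ x'' = x → ∀ z : B ⊗[A] J, mu J z = x'' - x' → rho J I z = φ ⟨x, hx⟩ := by
  have hm : ∀ x', x' ∈ I' → π₀ x' ∈ I := fun x' h => hI' ▸ Ideal.mem_map_of_mem _ h
  have hmk : ∀ z : B ⊗[A] J, π₀ (mu J z) = 0 := fun z => Ideal.Quotient.eq_zero_iff_mem.2 (mu_mem J z)
  let L : Ideal B :=
    { carrier := {x'' | ∃ (x' : B) (h : x' ∈ I') (z : B ⊗[A] J), mu J z = x'' - x' ∧ rho J I z = φ ⟨π₀ x', hm x' h⟩}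
      add_mem' := fun {a c} ⟨x', h, z, hz, hr⟩ ⟨y', h', w, hw, hs⟩ => ⟨x' + y', add_mem h h', z + w,
        by rw [mu_add, hz, hw]; ring,
        by rw [rho_add, hr, hs, ← LinearMap.map_add]; exact congrArg φ (Subtype.ext (map_add _ _ _).symm)⟩
      zero_mem' := ⟨0, zero_mem _, 0, by rw [mu_zero, sub_zero],
        by rw [rho_zero, ← LinearMap.map_zero φ]; exact congrArg φ (Subtype.ext (map_zero _).symm)⟩
      smul_mem' := fun b a ⟨x', h, z, hz, hr⟩ => ⟨b * x', Ideal.mul_mem_left _ _ h, b • z,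
        by rw [mu_smul, hz, smul_eq_mul]; ring,
        by
          rw [rho_smul, hr, ← LinearMap.map_smul]
          exact congrArg φ (Subtype.ext (by show b • π₀ x' = π₀ (b * x'); rw [Algebra.smul_def, map_mul]; rfl))⟩ }
  have hlift : ∀ x : I, ∃ x' ∈ I', π₀ x' = x := fun x =>
    (Ideal.mem_map_iff_of_surjective _ Ideal.Quotient.mk_surjective).1 (hI'.symm ▸ x.2)
  have hmap : L.map π₀ = I := by
    refine le_antisymm ?_ fun x hx => ?_
    · rw [Ideal.map_le_iff_le_comap]
      rintro a ⟨x', h, z, hz, -⟩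
      rw [Ideal.mem_comap, show a = x' + mu J z by rw [hz]; ring, map_add, hmk, add_zero]
      exact hm x' h
    · obtain ⟨x', h, he⟩ := hlift ⟨x, hx⟩
      obtain ⟨z, hz⟩ := rho_surjective J I (φ ⟨π₀ x', hm x' h⟩)
      have hmem : x' + mu J z ∈ L := ⟨x', h, z, by ring, hz⟩
      have := Ideal.mem_map_of_mem π₀ hmem
      rwa [map_add, hmk, add_zero, he] at this
  have hprop : ∀ (x : B ⧸ J.map (algebraMap A B)) (hx : x ∈ I) (x' x'' : B), x' ∈ I' → x'' ∈ L →
      π₀ x' = x → π₀ x'' = x → ∀ z : B ⊗[A] J, mu J z = x'' - x' → rho J I z = φ ⟨x, hx⟩ := by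
    intro x hx x' x'' h' h'' e' e'' z hz
    obtain ⟨y', hy', z0, hz0, hr⟩ := h''
    have hyx : π₀ y' = x := by
      rw [← e'', show x'' = y' + mu J z0 by rw [hz0]; ring, map_add, hmk, add_zero]
    obtain ⟨w, hw⟩ := exists_mu J (Ideal.Quotient.eq.1 (hyx.trans e'.symm) : y' - x' ∈ _)
    have hrw : rho J I w = 0 := rho_of_mu_mem hJ hI' (hw ▸ I'.sub_mem hy' h')
    rw [mu_injective J (show mu J z = mu J (z0 + w) by rw [mu_add, hz, hz0, hw]; ring), rho_add, hrw, add_zero, hr]
    exact congrArg φ (Subtype.ext hyx)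
  have hflat : Module.Flat A (B ⧸ L) := by
    refine flat_of_sq_zero J hJ ?_ ?_
    · refine (injective_iff_map_eq_zero _).2 fun t ht => ?_
      obtain ⟨s, rfl⟩ : ∃ s : B ⊗[A] J, TensorProduct.comm A (B ⧸ L) J
          (LinearMap.rTensor J (Ideal.Quotient.mkₐ A L).toLinearMap s) = t := by
        obtain ⟨t, rfl⟩ := (TensorProduct.comm A (B ⧸ L) J).surjective t
        obtain ⟨s, rfl⟩ := LinearMap.rTensor_surjective J
          (g := (Ideal.Quotient.mkₐ A L).toLinearMap) Ideal.Quotient.mk_surjective t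
        exact ⟨s, rfl⟩
      have hmu : mu J s ∈ L := by
        rw [← Ideal.Quotient.eq_zero_iff_mem]
        have e : ∀ w : B ⊗[A] J, Ideal.Quotient.mk L (mu J w) = TensorProduct.lid A (B ⧸ L)
            (LinearMap.rTensor (B ⧸ L) (Submodule.subtype J) (TensorProduct.comm A (B ⧸ L) J
              (LinearMap.rTensor J (Ideal.Quotient.mkₐ A L).toLinearMap w))) := fun w => by
          induction w using TensorProduct.induction_on with
          | zero => simp [mu_zero]
          | add x y hx hy => simp [mu_add, hx, hy]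
          | tmul b j => rw [mu_tmul, ← Ideal.Quotient.mkₐ_eq_mk A, map_smul]; simp
        rw [e, ht, map_zero]
      obtain ⟨x', h, z0, hz0, hr⟩ := hmu
      have hx0 : (⟨π₀ x', hm x' h⟩ : I) = 0 := Subtype.ext (by
        show π₀ x' = 0
        rw [show x' = mu J s - mu J z0 by rw [hz0]; ring, map_sub, hmk, hmk, sub_zero])
      rw [hx0, LinearMap.map_zero] at hr
      have hd : rho J I (s - z0) = 0 := rho_of_mu_mem hJ hI' (by rw [mu_sub, hz0]; simpa using h)
      rw [rho_sub, hr, sub_zero] at hd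
      rw [(rho_eq_zero_iff hJ hmap s).1 hd, map_zero]
    · let fac : (B ⧸ L) →ₗ[A] (B ⧸ J.map (algebraMap A B)) ⧸ I :=
        (Ideal.Quotient.liftₐ L (IsScalarTower.toAlgHom A B _) fun a ha =>
          (Ideal.Quotient.eq_zero_iff_mem (I := I)).2 (hmap ▸ Ideal.mem_map_of_mem _ ha)).toLinearMap
      let ψ : (A ⧸ J) ⊗[A] (B ⧸ L) →ₗ[A] (B ⧸ J.map (algebraMap A B)) ⧸ I :=
        TensorProduct.lift ((LinearMap.lsmul (A ⧸ J) ((B ⧸ J.map (algebraMap A B)) ⧸ I)).restrictScalars₁₂ A A |>.compl₂ fac)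
      have hψ : ∀ (a : A) (q : B ⧸ L), ψ ((Ideal.Quotient.mk J a) ⊗ₜ q) = a • fac q := fun a q => by
        show (Ideal.Quotient.mk J a) • fac q = a • fac q
        exact IsScalarTower.algebraMap_smul (A ⧸ J) a (fac q)
      have hone : ∀ t : (A ⧸ J) ⊗[A] (B ⧸ L), ∃ q, (1 : A ⧸ J) ⊗ₜ[A] q = t := fun t => by
        induction t using TensorProduct.induction_on with
        | zero => exact ⟨0, tmul_zero _ _⟩
        | add x y hx hy =>
          obtain ⟨p, rfl⟩ := hx
          obtain ⟨q, rfl⟩ := hy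
          exact ⟨p + q, tmul_add _ _ _⟩
        | tmul a q =>
          obtain ⟨a, rfl⟩ := Ideal.Quotient.mk_surjective a
          exact ⟨a • q, by rw [tmul_smul, smul_tmul', Algebra.smul_def, mul_one]; rfl⟩
      have hbij : Function.Bijective ψ := by
        refine ⟨(injective_iff_map_eq_zero _).2 fun t ht => ?_, fun y => ?_⟩
        · obtain ⟨q, rfl⟩ := hone t
          obtain ⟨q, rfl⟩ := Ideal.Quotient.mk_surjective q
          rw [← map_one (Ideal.Quotient.mk J), hψ, one_smul] at ht
          have hq : π₀ q ∈ L.map π₀ := hmap.symm ▸ Ideal.Quotient.eq_zero_iff_mem.1 ht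
          obtain ⟨i, hi, he⟩ := (Ideal.mem_map_iff_of_surjective _ Ideal.Quotient.mk_surjective).1 hq
          obtain ⟨w, hw⟩ := exists_mu J (Ideal.Quotient.eq.1 he.symm : q - i ∈ _)
          rw [show q = i + mu J w by rw [hw]; ring, map_add, Ideal.Quotient.eq_zero_iff_mem.2 hi, zero_add]
          clear hw
          induction w using TensorProduct.induction_on with
          | zero => rw [mu_zero, map_zero, tmul_zero]
          | add x y hx hy => rw [mu_add, map_add, tmul_add, hx, hy, add_zero]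
          | tmul b j =>
            rw [mu_tmul, ← Ideal.Quotient.mkₐ_eq_mk A, map_smul, tmul_smul, smul_tmul', Algebra.smul_def, mul_one,
              Ideal.Quotient.algebraMap_eq, Ideal.Quotient.eq_zero_iff_mem.2 j.2, zero_tmul]
        · obtain ⟨y, rfl⟩ := Ideal.Quotient.mk_surjective y
          obtain ⟨y, rfl⟩ := Ideal.Quotient.mk_surjective y
          exact ⟨(Ideal.Quotient.mk J 1) ⊗ₜ Ideal.Quotient.mk L y, by rw [hψ, one_smul]; rfl⟩
      let e := LinearEquiv.extendScalarsOfSurjective (R := A) (S := A ⧸ J) Ideal.Quotient.mk_surjective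
        (LinearEquiv.ofBijective ψ hbij)
      exact Module.Flat.of_linearEquiv e
  refine ⟨L, ⟨hflat, hmap, hprop⟩, ?_⟩
  rintro L₂ ⟨-, hmap₂, hprop₂⟩
  ext a
  constructor
  · intro ha
    obtain ⟨x', h', e'⟩ := hlift ⟨π₀ a, hmap₂ ▸ Ideal.mem_map_of_mem _ ha⟩
    obtain ⟨z, hz⟩ := exists_mu J (Ideal.Quotient.eq.1 e'.symm : a - x' ∈ _)
    exact ⟨x', h', z, hz, hprop₂ _ (hm x' h') x' a h' ha rfl e'.symm z hz⟩
  · rintro ⟨x', h', z, hz, hr⟩
    have hx : π₀ x' ∈ L₂.map π₀ := hmap₂.symm ▸ hm x' h'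
    obtain ⟨y, hy, hye⟩ := (Ideal.mem_map_iff_of_surjective _ Ideal.Quotient.mk_surjective).1 hx
    obtain ⟨w, hw⟩ := exists_mu J (Ideal.Quotient.eq.1 hye : y - x' ∈ _)
    have hrw := hprop₂ _ (hm x' h') x' y h' hy rfl hye w hw
    have hzero : rho J I (z - w) = 0 := by rw [rho_sub, hr, hrw, sub_self]
    have := mu_mem_of_rho hJ hmap₂ hzero
    rw [show a = y + mu J (z - w) by rw [mu_sub, hz, hw]; ring]
    exact L₂.add_mem hy this

end Torsor

end Groth.Agent.FlatLift
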